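import Mathlib
import Cfsg.Agent.H634.TwoA
import Cfsg.Agent.H590.RankOne

/-!
# Brauer's formula for an abelian Sylow subgroup with semiregular normalizer action

`Q` is an abelian Sylow `p`-subgroup of `H`, `C_H(z) ∩ N_H(Q) = C_H(Q)` for all `1 ≠ z ∈ Q`,
`m = |N_H(Q) : C_H(Q)|`. Then `k(B₀) = l(B₀) + t` with `m t = |Q| - 1`.
-/

set_option autoImplicit false

open Cfsg

namespace Cfsg.Agent.H632.Four

open Cfsg.Agent.H634.Cols Cfsg.Agent.H634.HypS

universe u

variable {H : Type u} [Group H] [Finite H] {p : ℕ} [hp : Fact p.Prime] {M : Ideal AlgInt}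

/-- The semiregularity hypothesis. -/
def Semi (Q : Subgroup H) : Prop :=
  ∀ z ∈ Q, z ≠ 1 → Subgroup.centralizer ({z} : Set H) ⊓ Subgroup.normalizer (Q : Set H) =
    Subgroup.centralizer (Q : Set H)

section orbit

variable {Q : Subgroup H}

omit [Finite H] in
theorem Semi.orbit_ncard (hsr : Semi Q) {x : H} (hx : x ∈ Q) (hx1 : x ≠ 1) :
    {y : H | ∃ g ∈ Subgroup.normalizer (Q : Set H), g * x * g⁻¹ = y}.ncard =
      (Subgroup.centralizer (Q : Set H)).relIndex (Subgroup.normalizer (Q : Set H)) := by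
  set N := Subgroup.normalizer (Q : Set H) with hNd
  let _ : MulAction N H := MulAction.compHom H ((MulAut.conj : H →* MulAut H).comp N.subtype)
  have hsmul : ∀ (g : N) (y : H), g • y = g * y * (g : H)⁻¹ := fun g y => rfl
  have h1 : MulAction.orbit N x = {y : H | ∃ g ∈ N, g * x * g⁻¹ = y} := by
    ext y
    constructor
    · rintro ⟨g, hg⟩
      exact ⟨g, g.2, hg⟩
    · rintro ⟨g, hg, hgy⟩
      exact ⟨⟨g, hg⟩, hgy⟩
  have h2 : MulAction.stabilizer N x = (Subgroup.centralizer (Q : Set H)).subgroupOf N := by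
    ext g
    rw [MulAction.mem_stabilizer_iff, hsmul, Subgroup.mem_subgroupOf]
    constructor
    · intro hg
      rw [← hsr x hx hx1]
      refine ⟨?_, g.2⟩
      show (g : H) ∈ Subgroup.centralizer ({x} : Set H)
      rw [Subgroup.mem_centralizer_singleton_iff]
      rw [mul_inv_eq_iff_eq_mul] at hg
      exact hg
    · intro hg
      rw [mul_inv_eq_iff_eq_mul]
      exact ((Subgroup.mem_centralizer_iff.1 hg) x hx).symm
  rw [← h1, ← MulAction.index_stabilizer, h2]
  rfl

end orbit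

variable (Q : Sylow p H)

/-- The elements of `Q` conjugate to `x`. -/
theorem ncard_isConj (hcomm : ∀ a b : Q, a * b = b * a) (hsr : Semi (Q : Subgroup H)) {x : H}
    (hx : x ∈ Q) (hx1 : x ≠ 1) :
    {y : H | y ∈ Q ∧ IsConj x y}.ncard =
      (Subgroup.centralizer ((Q : Subgroup H) : Set H)).relIndex
        (Subgroup.normalizer ((Q : Subgroup H) : Set H)) := by
  rw [← hsr.orbit_ncard hx hx1]
  congr 1
  ext y
  constructor
  · rintro ⟨hy, hxy⟩
    exact H634.TwoA.burnside Q (fun a ha b hb => congrArg Subtype.val (hcomm ⟨a, ha⟩ ⟨b, hb⟩))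
      hx hy hxy
  · rintro ⟨g, hg, rfl⟩
    exact ⟨(Subgroup.mem_normalizer_iff.1 hg x).1 hx, isConj_iff.2 ⟨g, rfl⟩⟩

/-- The centralizers of the nontrivial elements have normal `p`-complements. -/
theorem exists_index (hcomm : ∀ a b : Q, a * b = b * a) (hsr : Semi (Q : Subgroup H)) {x : H}
    (hx : x ∈ Q) (hx1 : x ≠ 1) :
    ∃ k : ℕ, (pPrimeCore p (Subgroup.centralizer ({x} : Set H))).index = p ^ k := by
  have hle : (Q : Subgroup H) ≤ Subgroup.centralizer ({x} : Set H) := by
    intro y hy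
    rw [Subgroup.mem_centralizer_singleton_iff]
    exact congrArg Subtype.val (hcomm ⟨y, hy⟩ ⟨x, hx⟩)
  exact Blocks.SylowColumns.exists_index_pPrimeCore (Q.subtype hle)
    (Blocks.SylowColumns.normalizer_le_centralizer Q x hle (hsr x hx hx1))

/-- Representatives of the classes of `p`-elements in `Q`. -/
theorem exists_reps_mem : ∃ X : Finset H, (∀ x ∈ X, x ∈ Q) ∧
    ∀ g : H, (∃ k : ℕ, orderOf g = p ^ k) → ∃! x, x ∈ X ∧ IsConj g x := by
  classical
  obtain ⟨X, -, hX, hXrep⟩ := exists_reps (p := p) (∅ : Finset H) (by simp) (by simp)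
  have hf : ∀ x : H, ∃ y : H, x ∈ X → y ∈ Q ∧ IsConj x y := by
    intro x
    by_cases hx : x ∈ X
    · have h1 := (show PEl p x from hX x hx).exists_sylow
      obtain ⟨P, hP⟩ := h1
      obtain ⟨g, hg⟩ := MulAction.exists_smul_eq H P Q
      refine ⟨g * x * g⁻¹, fun _ => ⟨?_, isConj_iff.2 ⟨g, rfl⟩⟩⟩
      rw [← hg]
      exact Subgroup.smul_mem_pointwise_smul x (MulAut.conj g) (P : Subgroup H) hP
    · exact ⟨1, fun h => absurd h hx⟩
  choose f hf using hf
  refine ⟨X.image f, ?_, ?_⟩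
  · intro x hx
    obtain ⟨y, hy, rfl⟩ := Finset.mem_image.1 hx
    exact (hf y hy).1
  · intro g hg
    obtain ⟨x, ⟨hx, hgx⟩, huniq⟩ := hXrep g hg
    refine ⟨f x, ⟨Finset.mem_image_of_mem f hx, hgx.trans (hf x hx).2⟩, ?_⟩
    rintro y ⟨hy, hgy⟩
    obtain ⟨z, hz, rfl⟩ := Finset.mem_image.1 hy
    rw [huniq z ⟨hz, hgy.trans (hf z hz).2.symm⟩]

/-- **Brauer's formula.** -/
theorem card_block (hM : IsPModular p M) (hcomm : ∀ a b : Q, a * b = b * a)
    (hsr : Semi (Q : Subgroup H)) :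
    ∃ t : ℕ, t * (Subgroup.centralizer ((Q : Subgroup H) : Set H)).relIndex
        (Subgroup.normalizer ((Q : Subgroup H) : Set H)) + 1 = Nat.card Q ∧
      Nat.card (principalBlock M H) = blockRank p (principalBlock M H) + t := by
  classical
  obtain ⟨X, hXQ, hXrep⟩ := exists_reps_mem Q
  have hX : ∀ x ∈ X, ∃ k : ℕ, orderOf x = p ^ k := fun x hx =>
    PEl.of_mem Q.isPGroup' (hXQ x hx)
  have h1 : (1 : H) ∈ X := by
    obtain ⟨x, ⟨hx, h1x⟩, -⟩ := hXrep 1 ⟨0, by simp⟩
    rwa [one_conj h1x] at hx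
  have hcard := card_principal_eq hM X hX hXrep
  refine ⟨(X.erase 1).card, ?_, ?_⟩
  · have : Fintype H := Fintype.ofFinite H
    set S : Finset H := Finset.univ.filter fun y => y ∈ Q ∧ y ≠ 1 with hS
    have hr : ∀ y : H, ∃ x : H, y ∈ S → x ∈ X.erase 1 ∧ IsConj y x := by
      intro y
      by_cases hy : y ∈ S
      · rw [hS, Finset.mem_filter] at hy
        obtain ⟨x, ⟨hx, hyx⟩, -⟩ := hXrep y (PEl.of_mem Q.isPGroup' hy.2.1)
        refine ⟨x, fun _ => ⟨Finset.mem_erase.2 ⟨?_, hx⟩, hyx⟩⟩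
        rintro rfl
        exact hy.2.2 (one_conj hyx.symm)
      · exact ⟨1, fun h => absurd h hy⟩
    choose r hr using hr
    have h2 := Finset.card_eq_sum_card_fiberwise (f := r) (s := S) (t := X.erase 1)
      (fun y hy => (hr y hy).1)
    have h3 : ∀ x ∈ X.erase 1, (S.filter fun y => r y = x).card =
        (Subgroup.centralizer ((Q : Subgroup H) : Set H)).relIndex
        (Subgroup.normalizer ((Q : Subgroup H) : Set H)) := by
      intro x hx
      rw [Finset.mem_erase] at hx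
      rw [← ncard_isConj Q hcomm hsr (hXQ x hx.2) hx.1, ← Set.ncard_coe_finset]
      congr 1
      ext y
      simp only [Finset.coe_filter, hS, Finset.mem_filter, Finset.mem_univ, true_and,
        Set.mem_ofPred_eq]
      constructor
      · rintro ⟨hy, hyx⟩
        have := (hr y (by rw [hS, Finset.mem_filter]; exact ⟨Finset.mem_univ _, hy⟩)).2
        rw [hyx] at this
        exact ⟨hy.1, this.symm⟩
      · rintro ⟨hy, hxy⟩
        have hy1 : y ≠ 1 := by
          rintro rfl
          exact hx.1 (one_conj hxy.symm)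
        have hyS : y ∈ S := by rw [hS, Finset.mem_filter]; exact ⟨Finset.mem_univ _, hy, hy1⟩
        refine ⟨⟨hy, hy1⟩, ?_⟩
        obtain ⟨w, -, hw⟩ := hXrep y (PEl.of_mem Q.isPGroup' hy)
        have h4 := hw (r y) ⟨Finset.mem_of_mem_erase (hr y hyS).1, (hr y hyS).2⟩
        have h5 := hw x ⟨hx.2, hxy.symm⟩
        rw [h4, h5]
    rw [Finset.sum_congr rfl h3, Finset.sum_const, smul_eq_mul] at h2
    rw [← h2]
    have h4 : Nat.card Q = (Finset.univ.filter fun y : H => y ∈ Q).card := by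
      rw [← Fintype.card_subtype, ← Nat.card_eq_fintype_card]
      rfl
    have h5 := Finset.card_erase_add_one (s := Finset.univ.filter fun y : H => y ∈ Q)
      (a := (1 : H)) (by rw [Finset.mem_filter]; exact ⟨Finset.mem_univ _, Q.one_mem⟩)
    rw [h4, ← h5]
    congr 2
    ext y
    simp only [hS, Finset.mem_filter, Finset.mem_univ, true_and, Finset.mem_erase]
    tauto
  · rw [hcard, ← Finset.add_sum_erase X _ h1, H634.TwoA.rank_one_eq hM]
    congr 1
    rw [Finset.card_eq_sum_ones]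
    refine Finset.sum_congr rfl fun x hx => ?_
    rw [Finset.mem_erase] at hx
    exact H590.RankOne.blockRank_eq_one hM (exists_index Q hcomm hsr (hXQ x hx.2) hx.1)

end Cfsg.Agent.H632.Four
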