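import Mathlib
import Cfsg.Agent.H632.Four.CBarA
import Cfsg.Agent.H632.Four.Fs
import Cfsg.Agent.S0158
import Cfsg.Agent.S0161
import Cfsg.Agent.H656.FrobBlock

/-!
# Frobenius-Schur indicators and the columns of the elements of `Q`
-/

set_option autoImplicit false

open Cfsg Cfsg.Agent.Blocks.Basic Cfsg.Agent.Blocks.Local Cfsg.Agent.Blocks
open Cfsg.Agent.H644.CentralQuot
open scoped ComplexConjugate

namespace Cfsg.Agent.H632.Four

universe u

section basic

variable {X : Type u} [Group X] [Finite X]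

theorem fs_spec (χ : IrrCharacter X) : (fs (χ : X → ℂ) = 0 ∨ fs (χ : X → ℂ) = 1 ∨
    fs (χ : X → ℂ) = -1) ∧ (fs (χ : X → ℂ) = 0 ↔ ∃ s : X, ((χ : X → ℂ) s).im ≠ 0) := by
  have := Fintype.ofFinite X
  obtain ⟨χ, n, ρ, hρ, rfl⟩ := χ
  have h := S0158.result ρ
  rw [show fs ((⟨ρ.character, n, ρ, hρ, rfl⟩ : IrrCharacter X) : X → ℂ) =
    (Nat.card X : ℂ)⁻¹ * ∑ s : X, ρ.character (s * s) from fs_eq_sum _]
  exact h

theorem fs_of_real {χ : IrrCharacter X} (h : ∀ g : X, conj ((χ : X → ℂ) g) = (χ : X → ℂ) g) :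
    fs (χ : X → ℂ) = 1 ∨ fs (χ : X → ℂ) = -1 := by
  obtain ⟨h1, h2⟩ := fs_spec χ
  rcases h1 with h1 | h1
  · obtain ⟨s, hs⟩ := h2.1 h1
    exact absurd (Complex.conj_eq_iff_im.1 (h s)) hs
  · exact h1

theorem real_of_fs_ne_zero {χ : IrrCharacter X} (h : fs (χ : X → ℂ) ≠ 0) (g : X) :
    ((χ : X → ℂ) g).im = 0 := by
  by_contra hcon
  exact h ((fs_spec χ).2.2 ⟨g, hcon⟩)

theorem fs_triv : fs (fun _ : X => (1 : ℂ)) = 1 := by
  have := Fintype.ofFinite X
  rw [fs_eq_sum, Finset.sum_const, Finset.card_univ, nsmul_eq_mul, mul_one,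
    ← Nat.card_eq_fintype_card]
  exact inv_mul_cancel₀ (by exact_mod_cast Nat.card_pos.ne')

omit [Finite X] in
theorem centralizer_inv (g : X) :
    Subgroup.centralizer ({g⁻¹} : Set X) = Subgroup.centralizer ({g} : Set X) := by
  ext x
  rw [Subgroup.mem_centralizer_singleton_iff, Subgroup.mem_centralizer_singleton_iff]
  constructor
  · intro h
    have h1 : Commute x g⁻¹ := h
    exact (Commute.inv_right_iff.1 h1).eq
  · intro h
    have h1 : Commute x g := h
    exact (Commute.inv_right_iff.2 h1).eq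

/-- The conjugate character. -/
noncomputable def cj (χ : IrrCharacter X) : IrrCharacter X :=
  ⟨fun g => conj ((χ : X → ℂ) g), Characters.Core.isIrr_conj χ.2⟩

theorem cj_apply (χ : IrrCharacter X) (g : X) : (cj χ : X → ℂ) g = conj ((χ : X → ℂ) g) := rfl

theorem cj_mem {M : Ideal AlgInt} {χ : IrrCharacter X} (hχ : χ ∈ principalBlock M X) :
    cj χ ∈ principalBlock M X := by
  rw [PrincipalSection.mem_principalBlock_iff] at hχ ⊢
  intro g
  have h1 := hχ g⁻¹
  have h2 : centralChar (fun _ : X => (1 : ℂ)) g = centralChar (fun _ : X => (1 : ℂ)) g⁻¹ := by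
    unfold centralChar
    rw [centralizer_inv]
  have h3 : centralChar (cj χ : X → ℂ) g = centralChar (χ : X → ℂ) g⁻¹ := by
    obtain ⟨d, -, hd⟩ := Characters.Core.isIrr_apply_one χ.2
    show ((Subgroup.centralizer ({g} : Set X)).index : ℂ) * conj ((χ : X → ℂ) g) /
        conj ((χ : X → ℂ) 1) =
      ((Subgroup.centralizer ({g⁻¹} : Set X)).index : ℂ) * (χ : X → ℂ) g⁻¹ / (χ : X → ℂ) 1
    rw [centralizer_inv, Characters.Core.isCharacter_apply_inv (Characters.Core.isIrr_isCharacter χ.2),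
      hd, map_natCast]
  show MemLocalIdeal M (centralChar (fun _ : X => (1 : ℂ)) g - centralChar (cj χ : X → ℂ) g)
  rw [h3, h2]
  exact h1

end basic

section nilp

variable {C : Type u} [Group C] [Finite C] {p : ℕ} [hp : Fact p.Prime] {M : Ideal AlgInt}

/-- The only real character of the principal block of a `p`-nilpotent group, `p` odd. -/
theorem eq_triv_of_fs_ne_zero (hM : IsPModular p M) (hp2 : p ≠ 2)
    (h : ∃ k : ℕ, (pPrimeCore p C).index = p ^ k) {ψ : IrrCharacter C}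
    (hψ : ψ ∈ principalBlock M C) (h0 : fs (ψ : C → ℂ) ≠ 0) : (ψ : C → ℂ) = fun _ => 1 := by
  have := Fintype.ofFinite C
  have hN : (pPrimeCore p C).Normal := Lib.Cores.pPrimeCore_normal p
  have := Fintype.ofFinite (pPrimeCore p C)
  rw [S0939.result p M hM h] at hψ
  obtain ⟨θ, hθ⟩ := Deflate.exists_deflation (pPrimeCore p C) (ψ : C → ℂ) ψ.2 (by
    rw [Finset.sum_congr rfl fun (n : pPrimeCore p C) _ => hψ n.1 n.2,
      Finset.sum_const, nsmul_eq_mul]
    refine mul_ne_zero ?_ (irr_one_ne_zero ψ.2)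
    rw [Nat.cast_ne_zero, Finset.card_ne_zero]
    exact Finset.univ_nonempty)
  obtain ⟨k, hk⟩ := h
  have hodd : Odd (Nat.card (C ⧸ pPrimeCore p C)) := by
    have h1 : Nat.card (C ⧸ pPrimeCore p C) = p ^ k := hk
    rw [h1]
    exact (hp.out.odd_of_ne_two hp2).pow
  have h1 : ∀ g : C ⧸ pPrimeCore p C, ((θ : C ⧸ pPrimeCore p C → ℂ) g).im = 0 := by
    intro g
    obtain ⟨c, rfl⟩ := QuotientGroup.mk_surjective g
    have h2 := real_of_fs_ne_zero h0 c
    rw [hθ] at h2
    exact h2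
  have h2 := S0161.result hodd θ h1
  rw [hθ]
  funext c
  show (θ : C ⧸ pPrimeCore p C → ℂ) _ = 1
  rw [h2]

theorem fs_sum_nilp (hM : IsPModular p M) (hp2 : p ≠ 2)
    (h : ∃ k : ℕ, (pPrimeCore p C).index = p ^ k) (x : C) :
    ∑ᶠ ψ ∈ principalBlock M C, fs (ψ : C → ℂ) * (ψ : C → ℂ) x = 1 := by
  have := isPrime_of_isPModular hM
  let o : IrrCharacter C := ⟨fun _ => 1, isIrrCharacter_one⟩
  have ho : o ∈ principalBlock M C := PrincipalSection.one_mem_principalBlock
  have h1 : ∑ᶠ ψ ∈ principalBlock M C, fs (ψ : C → ℂ) * (ψ : C → ℂ) x =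
      ∑ᶠ ψ ∈ ({o} : Set (IrrCharacter C)), fs (ψ : C → ℂ) * (ψ : C → ℂ) x := by
    apply finsum_mem_inter_support_eq
    ext ψ
    simp only [Set.mem_inter_iff, Function.mem_support, Set.mem_singleton_iff]
    constructor
    · rintro ⟨h2, h3⟩
      refine ⟨Subtype.ext ?_, h3⟩
      exact eq_triv_of_fs_ne_zero hM hp2 h h2 (left_ne_zero_of_mul h3)
    · rintro ⟨rfl, h3⟩
      exact ⟨ho, h3⟩
  rw [h1, finsum_mem_singleton]
  show fs (fun _ : C => (1 : ℂ)) * 1 = 1
  rw [fs_triv, one_mul]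

end nilp

section column

variable {H : Type u} [Group H] [Finite H] {p : ℕ} [hp : Fact p.Prime] {M : Ideal AlgInt}

theorem fs_column (hM : IsPModular p M) (hp2 : p ≠ 2) (Q : Sylow p H)
    (hcomm : ∀ a b : Q, a * b = b * a) (hsr : Semi (Q : Subgroup H)) {y : H} (hy : y ∈ Q)
    (hy1 : y ≠ 1) : ∑ᶠ χ ∈ principalBlock M H, fs (χ : H → ℂ) * (χ : H → ℂ) y = 1 := by
  have h1 := fs_section hM (H634.HypS.PEl.of_mem Q.isPGroup' hy) 1 (by
    rw [orderOf_one]
    exact hp.out.one_lt.ne' ∘ Nat.dvd_one.1)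
  rw [fs_sum_nilp hM hp2 (exists_index Q hcomm hsr hy hy1)] at h1
  rw [← h1]
  simp

open Cfsg.Agent.Blocks.SemiregularGram

/-- A combination of the nontrivial linear characters which is constant on `Q \ 1`. -/
theorem coeff_eq {P : Type u} [Group P] [Fintype P] [Fintype (P →* ℂˣ)] [DecidableEq (P →* ℂˣ)]
    (F : (P →* ℂˣ) → ℂ) (c : ℂ)
    (h : ∀ y : P, y ≠ 1 → ∑ l ∈ Finset.univ.erase (1 : P →* ℂˣ), F l * toFun l y = c) :
    ∀ l : P →* ℂˣ, l ≠ 1 → F l = -c := by
  classical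
  set S : P → ℂ := fun y => ∑ l ∈ Finset.univ.erase (1 : P →* ℂˣ), F l * toFun l y with hS
  have h1 : ∀ m : P →* ℂˣ, classInner S (toFun m) = if m = 1 then 0 else F m := by
    intro m
    have h2 : classInner S (toFun m) =
        ∑ l ∈ Finset.univ.erase (1 : P →* ℂˣ), F l * classInner (toFun l) (toFun m) := by
      simp only [classInner_def, hS, Finset.sum_mul, Finset.mul_sum]
      rw [Finset.sum_comm]
      refine Finset.sum_congr rfl fun l _ => Finset.sum_congr rfl fun y _ => ?_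
      ring
    rw [h2]
    simp only [classInner_toFun, mul_ite, mul_one, mul_zero]
    rw [Finset.sum_ite_eq']
    simp only [Finset.mem_erase, Finset.mem_univ, and_true]
    split_ifs <;> simp_all
  have h2 : ∀ m : P →* ℂˣ, classInner S (toFun m) =
      c * classInner (toFun (1 : P →* ℂˣ)) (toFun m) + (Nat.card P : ℂ)⁻¹ * (S 1 - c) := by
    intro m
    have h3 : ∀ y : P, S y * conj (toFun m y) =
        c * (toFun (1 : P →* ℂˣ) y * conj (toFun m y)) + if y = 1 then (S 1 - c) else 0 := by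
      intro y
      by_cases hy : y = 1
      · subst hy
        simp [toFun]
      · rw [if_neg hy, add_zero]
        have : S y = c := h y hy
        rw [this]
        simp [toFun]
    rw [classInner_def, classInner_def, Finset.sum_congr rfl fun y _ => h3 y,
      Finset.sum_add_distrib, Finset.sum_ite_eq' Finset.univ, if_pos (Finset.mem_univ _),
      ← Finset.mul_sum]
    ring
  intro l hl
  have h3 := h1 l
  have h4 := h1 1
  rw [h2 l, classInner_toFun, if_neg (fun h => hl h.symm), if_neg hl] at h3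
  rw [h2 1, classInner_toFun, if_pos rfl, if_pos rfl] at h4
  rw [← h3]
  linear_combination h4

end column

end Cfsg.Agent.H632.Four
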