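import Mathlib
import Cfsg.Agent.H632.Four.CBarB
import Cfsg.Agent.H634.CaseBDef
import Cfsg.Agent.H684.BlockTools
import Cfsg.Agent.S0960

/-!
# T10: the principal block of `C(x) / ⟨x⟩`
-/

set_option autoImplicit false

open Cfsg Cfsg.Agent.Blocks.Basic Cfsg.Agent.Blocks.Local Cfsg.Agent.Blocks
open scoped ComplexConjugate

namespace Cfsg.Agent.H632.Four

universe u

theorem sq_sq_24 {b c : ℤ} (h : b ^ 2 + c ^ 2 = 24) : False := by
  have hb : -4 ≤ b ∧ b ≤ 4 := by constructor <;> nlinarith [sq_nonneg c]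
  have hc : -4 ≤ c ∧ c ≤ 4 := by constructor <;> nlinarith [sq_nonneg b]
  obtain ⟨h1, h2⟩ := hb
  obtain ⟨h3, h4⟩ := hc
  interval_cases b <;> interval_cases c <;> omega

theorem arith {m t : ℕ} {a d δ : ℤ} (hδ : δ = 1 ∨ δ = -1) (ha : a ≠ 0) (ht : 2 ≤ t) (hm : 2 ≤ m)
    (hN : t * m = 8 ∨ t * m = 24 ∨ m = 2)
    (h : (d - δ) ^ 2 + ((t : ℤ) - 1) * d ^ 2 + a ^ 2 = m) :
    m = 2 ∧ (a = 1 ∨ a = -1) ∧ ((t : ℤ) * d - δ = 1 ∨ (t : ℤ) * d - δ = -1) := by
  have ha1 : 0 < a ^ 2 := by positivity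
  have ht' : (1 : ℤ) ≤ (t : ℤ) - 1 := by
    have : (2 : ℤ) ≤ t := by exact_mod_cast ht
    linarith
  by_cases hm2 : m = 2
  · subst hm2
    refine ⟨rfl, ?_⟩
    have hd2 : d ^ 2 ≤ ((t : ℤ) - 1) * d ^ 2 := by nlinarith [sq_nonneg d]
    push_cast at h
    have h1 : d ^ 2 ≤ 1 := by nlinarith [sq_nonneg (d - δ)]
    have h2 : a ^ 2 ≤ 2 := by nlinarith [sq_nonneg (d - δ), sq_nonneg d]
    have hd : d = -1 ∨ d = 0 ∨ d = 1 := by
      have h3 : -1 ≤ d := by nlinarith
      have h4 : d ≤ 1 := by nlinarith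
      omega
    have haa : a = -1 ∨ a = 1 := by
      have h3 : -1 ≤ a := by nlinarith
      have h4 : a ≤ 1 := by nlinarith
      omega
    have ha2 : a ^ 2 = 1 := by rcases haa with h | h <;> rw [h] <;> norm_num
    refine ⟨haa.symm, ?_⟩
    rw [ha2] at h
    rcases hd with hd | hd | hd <;> rcases hδ with hδ | hδ <;> subst hd <;> subst hδ <;>
      ring_nf at h ⊢ <;> first | omega | (left; omega) | (right; omega)
  · exfalso
    have hm3 : 3 ≤ m := by omega
    have hcase : (t = 2 ∧ m = 4) ∨ (t = 8 ∧ m = 3) ∨ (t = 6 ∧ m = 4) ∨ (t = 4 ∧ m = 6) ∨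
        (t = 3 ∧ m = 8) ∨ (t = 2 ∧ m = 12) := by
      rcases hN with hN | hN | hN
      · have h1 : t ≤ 2 := by nlinarith
        have h2 : t = 2 := by omega
        subst h2
        omega
      · have h1 : t ≤ 8 := by nlinarith
        interval_cases t <;> omega
      · omega
    have hd1 : -4 ≤ d ∧ d ≤ 4 := by
      have h1 : d ^ 2 ≤ m := by nlinarith [sq_nonneg (d - δ), sq_nonneg d]
      have h2 : (m : ℤ) ≤ 12 := by
        rcases hcase with h | h | h | h | h | h <;> omega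
      constructor <;> nlinarith
    have ha2 : -4 ≤ a ∧ a ≤ 4 := by
      have h1 : a ^ 2 ≤ m := by nlinarith [sq_nonneg (d - δ), sq_nonneg d]
      have h2 : (m : ℤ) ≤ 12 := by
        rcases hcase with h | h | h | h | h | h <;> omega
      constructor <;> nlinarith
    obtain ⟨hd1, hd2⟩ := hd1
    obtain ⟨ha2, ha3⟩ := ha2
    rcases hcase with ⟨h1, h2⟩ | ⟨h1, h2⟩ | ⟨h1, h2⟩ | ⟨h1, h2⟩ | ⟨h1, h2⟩ | ⟨h1, h2⟩ <;>
      subst h1 <;> subst h2 <;> rcases hδ with hδ | hδ <;> subst hδ <;>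
      interval_cases d <;> interval_cases a <;> revert h <;> norm_num

section one

variable {H : Type u} [Group H] [Finite H] {p : ℕ} [hp : Fact p.Prime] {M : Ideal AlgInt}

open Cfsg.Agent.Blocks.SemiregularGram in
/-- A character which is constant on `Q \ 1` is an integer there. -/
theorem exists_int_of_const {Q : Subgroup H} (hcomm : ∀ a b : Q, a * b = b * a)
    (hQ : 1 < Nat.card Q) {χ : H → ℂ} (hχ : IsCharacter H χ) {c : ℂ}
    (hc : ∀ v ∈ Q, v ≠ 1 → χ v = c) : ∃ n : ℤ, c = n := by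
  classical
  have := finite_hom Q
  have := Fintype.ofFinite (Q →* ℂˣ)
  have := Fintype.ofFinite Q
  have h1 := card_hom (P := Q) hcomm
  have h2 : Fintype.card (Q →* ℂˣ) = Nat.card Q := by exact_mod_cast h1
  have h3 : 1 < Fintype.card (Q →* ℂˣ) := by rw [h2]; exact hQ
  obtain ⟨l, hl⟩ := Fintype.exists_ne_of_one_lt_card h3 (1 : Q →* ℂˣ)
  obtain ⟨n, hn⟩ := coef_int Q hχ l
  refine ⟨n, ?_⟩
  rw [← hn]
  have h4 : coef Q χ l = c * coef Q (fun _ => 1) l := by
    rw [coef_eq, coef_eq]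
    simp only [Finset.mul_sum]
    refine Finset.sum_congr rfl fun u _ => ?_
    by_cases hu : u = 1
    · subst hu
      simp [toFun]
    · rw [hc u u.2 (fun h => hu (Subtype.ext h))]
      ring
  rw [h4]
  have h5 : coef Q (fun _ => 1) l = 1 := by
    change classInner (toFun (1 : Q →* ℂˣ)) (1 - toFun l) = 1
    rw [← toFun_one, Characters.Core.classInner_sub_right, classInner_toFun, classInner_toFun, if_pos rfl,
      if_neg (fun h => hl h.symm), sub_zero]
  rw [h5, mul_one]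

theorem ncard_ne_one (Q : Subgroup H) : {y : H | y ∈ Q ∧ y ≠ 1}.ncard + 1 = Nat.card Q := by
  have h1 : {y : H | y ∈ Q ∧ y ≠ 1} = (Q : Set H) \ {1} := by
    ext y
    simp
  rw [h1, Set.ncard_sdiff_singleton_add_one Q.one_mem]
  rfl

theorem twentyfive (hM : IsPModular p M) (Q : Sylow p H) (hcomm : ∀ a b : Q, a * b = b * a)
    (hsr : Semi (Q : Subgroup H)) (hQ : Nat.card Q = 25)
    (hm : (Subgroup.centralizer ((Q : Subgroup H) : Set H)).relIndex
        (Subgroup.normalizer ((Q : Subgroup H) : Set H)) = 24)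
    (hk : Nat.card (principalBlock M H) = 3) : False := by
  classical
  have := isPrime_of_isPModular hM
  have : Finite (IrrCharacter H) := Characters.Core.finite_irr
  obtain ⟨u, hu1⟩ : ∃ u : Q, u ≠ 1 := by
    have : Nontrivial Q := Finite.one_lt_card_iff_nontrivial.1 (by rw [hQ]; norm_num)
    exact exists_ne 1
  have hu1' : (u : H) ≠ 1 := fun h => hu1 (Subtype.ext h)
  have h1 := ncard_isConj Q hcomm hsr u.2 hu1'
  rw [hm] at h1
  have h2 := ncard_ne_one (Q : Subgroup H)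
  have hQ' : Nat.card (Q : Subgroup H) = 25 := hQ
  have h3 : {y : H | y ∈ Q ∧ IsConj (u : H) y} = {y : H | y ∈ (Q : Subgroup H) ∧ y ≠ 1} := by
    apply Set.eq_of_subset_of_ncard_le
    · rintro y ⟨hy, hc⟩
      refine ⟨hy, ?_⟩
      rintro rfl
      exact hu1' (isConj_one_left.1 hc)
    · rw [h1]; omega
    · exact Set.toFinite _
  have hconst : ∀ χ : IrrCharacter H, ∃ n : ℤ, (χ : H → ℂ) u = n := by
    intro χ
    refine exists_int_of_const (Q := (Q : Subgroup H)) hcomm (by rw [hQ']; norm_num)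
      (Characters.Core.isIrr_isCharacter χ.2) fun v hv hv1 => ?_
    have h4 : v ∈ {y : H | y ∈ Q ∧ IsConj (u : H) y} := by
      rw [h3]
      exact ⟨hv, hv1⟩
    obtain ⟨c, hc⟩ := isConj_iff.1 h4.2
    rw [← hc]
    exact Characters.Core.isCharacter_isClassFunction (Characters.Core.isIrr_isCharacter χ.2) _ _
  choose n hn using hconst
  have hfin : (principalBlock M H).Finite := Set.toFinite _
  have hcol := SylowColumns.columns M hM Q hcomm hsr hfin u u hu1
  rw [if_pos (IsConj.refl _), hQ] at hcol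
  have hcol' : ∑ χ ∈ hfin.toFinset, n χ ^ 2 = 25 := by
    have h4 : ((∑ χ ∈ hfin.toFinset, n χ ^ 2 : ℤ) : ℂ) = ((25 : ℤ) : ℂ) := by
      push_cast
      rw [Nat.cast_ofNat] at hcol
      rw [← hcol]
      refine Finset.sum_congr rfl fun χ _ => ?_
      rw [hn χ]
      simp [sq]
    exact_mod_cast h4
  let o : IrrCharacter H := ⟨fun _ => 1, isIrrCharacter_one⟩
  have ho : o ∈ hfin.toFinset := by
    rw [Set.Finite.mem_toFinset]
    exact PrincipalSection.one_mem_principalBlock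
  have hno : n o = 1 := by
    have h4 := hn o
    have h5 : (1 : ℂ) = (n o : ℂ) := h4
    exact_mod_cast h5.symm
  have hc3 : hfin.toFinset.card = 3 := by
    rw [← hk, Nat.card_coe_set_eq, Set.ncard_eq_toFinset_card _ hfin]
  have hc2 : (hfin.toFinset.erase o).card = 2 := by
    rw [Finset.card_erase_of_mem ho, hc3]
  obtain ⟨χ, χ', hne, he⟩ := Finset.card_eq_two.1 hc2
  rw [← Finset.add_sum_erase _ _ ho, he, Finset.sum_pair hne, hno] at hcol'
  exact sq_sq_24 (b := n χ) (c := n χ') (by linarith)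

end one

end Cfsg.Agent.H632.Four
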