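import Mathlib
import Cfsg.Agent.H632.Four.CBarC

/-!
# T10: the principal block of `C(x) / ⟨x⟩`
-/

set_option autoImplicit false

open Cfsg Cfsg.Agent.Blocks.Basic Cfsg.Agent.Blocks.Local Cfsg.Agent.Blocks
open Cfsg.Agent.H634.CaseB
open scoped ComplexConjugate

namespace Cfsg.Agent.H632.Four

universe u

variable {H : Type u} [Group H] [Finite H] {p : ℕ} [hp : Fact p.Prime] {M : Ideal AlgInt}

omit [Finite H] hp in
/-- If all the characters of the principal block are combinations of `1` and `ξ` on `p`-regular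
elements and `ξ` is constant there, the rank is one. -/
theorem rank_le_one {ξ : IrrCharacter H}
    (hspan : ∀ θ ∈ principalBlock M H, ∃ m n : ℤ, ∀ h : H, ¬ p ∣ orderOf h →
      (θ : H → ℂ) h = m + n * (ξ : H → ℂ) h)
    (hc : ∀ h : H, ¬ p ∣ orderOf h → (ξ : H → ℂ) h = (ξ : H → ℂ) 1) :
    blockRank p (principalBlock M H) ≤ 1 := by
  let one : IrrCharacter H := ⟨fun _ => 1, isIrrCharacter_one⟩
  have hle : Submodule.span ℂ ((fun χ : IrrCharacter H => pRegularPart p (χ : H → ℂ)) ''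
      principalBlock M H) ≤ Submodule.span ℂ {pRegularPart p (one : H → ℂ)} := by
    rw [Submodule.span_le]
    rintro _ ⟨χ, hχ, rfl⟩
    obtain ⟨m, n, hmn⟩ := hspan χ hχ
    rw [SetLike.mem_coe, Submodule.mem_span_singleton]
    refine ⟨m + n * (ξ : H → ℂ) 1, ?_⟩
    funext g
    change (m + n * (ξ : H → ℂ) 1) * pRegularPart p (one : H → ℂ) g =
      pRegularPart p (χ : H → ℂ) g
    unfold pRegularPart
    by_cases hg : IsPRegular p g
    · rw [if_pos hg, if_pos hg, hmn g hg, hc g hg]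
      exact mul_one _
    · rw [if_neg hg, if_neg hg, mul_zero]
  unfold blockRank
  refine (Submodule.finrank_mono hle).trans ?_
  refine (finrank_span_le_card _).trans ?_
  simp

omit [Finite H] in
theorem pRegular_one : ¬ p ∣ orderOf (1 : H) := by
  rw [orderOf_one]
  exact hp.out.one_lt.ne' ∘ Nat.dvd_one.1

theorem finsum_mem_const_eq {ι : Type*} {s : Set ι} (hs : s.Finite) (c : ℂ) :
    ∑ᶠ _i ∈ s, c = s.ncard * c := by
  rw [finsum_mem_eq_finite_toFinset_sum _ hs, Finset.sum_const, nsmul_eq_mul,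
    Set.ncard_eq_toFinset_card _ hs]

open Cfsg.Agent.Blocks.SemiregularGram in
/-- The indicators of the exceptional characters are equal. -/
theorem fs_exc {Q : Subgroup H} {Y : Set (IrrCharacter H)} {d δ : ℤ} (hδ : δ = 1 ∨ δ = -1)
    (ζ : (Q →* ℂˣ) → IrrCharacter H)
    (hζY : ∀ ψ : Q →* ℂˣ, ψ ≠ 1 → ζ ψ ∈ Y)
    (hYζ : ∀ η ∈ Y, ∃ ψ : Q →* ℂˣ, ψ ≠ 1 ∧ ζ ψ = η)
    (hζ : ∀ ψ ψ' : Q →* ℂˣ, ψ ≠ 1 → ψ' ≠ 1 →
      ((∃ s ∈ Q.normalizerMonoidHom.range, ψ'.comp s.toMonoidHom = ψ) ↔ ζ ψ = ζ ψ'))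
    (hval : ∀ ψ : Q →* ℂˣ, ψ ≠ 1 → ∀ y : Q, y ≠ 1 → (ζ ψ : H → ℂ) y = (d : ℂ) + (δ : ℂ) *
      ∑ᶠ ψ' ∈ {ψ' : Q →* ℂˣ | ∃ s ∈ Q.normalizerMonoidHom.range, ψ'.comp s.toMonoidHom = ψ},
        ((ψ' y : ℂˣ) : ℂ))
    (F : IrrCharacter H → ℂ) (c : ℂ)
    (hF : ∀ y : Q, y ≠ 1 → c + ∑ᶠ η ∈ Y, F η * (η : H → ℂ) y = 0) :
    ∀ η ∈ Y, F η = δ * (c + d * ∑ᶠ η ∈ Y, F η) := by
  classical
  have : Finite (IrrCharacter H) := Characters.Core.finite_irr
  have := Fintype.ofFinite (IrrCharacter H)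
  have := finite_hom Q
  have := Fintype.ofFinite (Q →* ℂˣ)
  have := Fintype.ofFinite Q
  have hδ2 : (δ : ℂ) * δ = 1 := by rcases hδ with h | h <;> rw [h] <;> norm_num
  set L : Finset (Q →* ℂˣ) := Finset.univ.erase 1 with hL
  have hLmem : ∀ l, l ∈ L ↔ l ≠ 1 := by intro l; simp [hL]
  have hYfin : Y.Finite := Set.toFinite _
  have hYmem : ∀ η, η ∈ hYfin.toFinset ↔ η ∈ Y := fun η => Set.Finite.mem_toFinset hYfin
  have hkey : ∀ y : Q, y ≠ 1 → ∑ l ∈ L, F (ζ l) * toFun l y = -(δ * (c + d * ∑ᶠ η ∈ Y, F η)) := by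
    intro y hy
    have h1 := hF y hy
    have h2 : ∑ᶠ η ∈ Y, F η * (η : H → ℂ) y = d * ∑ᶠ η ∈ Y, F η +
        δ * ∑ l ∈ L, F (ζ l) * toFun l y := by
      rw [finsum_mem_eq_finite_toFinset_sum _ hYfin, finsum_mem_eq_finite_toFinset_sum _ hYfin,
        ← Finset.sum_fiberwise_of_maps_to (s := L) (t := hYfin.toFinset) (g := ζ)
          (fun l hl => (hYmem _).2 (hζY l ((hLmem l).1 hl))) (fun l => F (ζ l) * toFun l y),
        Finset.mul_sum, Finset.mul_sum, ← Finset.sum_add_distrib]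
      refine Finset.sum_congr rfl fun η hη => ?_
      obtain ⟨ψ, hψ, rfl⟩ := hYζ η ((hYmem η).1 hη)
      rw [hval ψ hψ y hy]
      have h3 : ∑ l ∈ L with ζ l = ζ ψ, F (ζ l) * toFun l y =
          F (ζ ψ) * ∑ᶠ ψ' ∈ {ψ' : Q →* ℂˣ | ∃ s ∈ Q.normalizerMonoidHom.range,
            ψ'.comp s.toMonoidHom = ψ}, ((ψ' y : ℂˣ) : ℂ) := by
        rw [finsum_mem_eq_finite_toFinset_sum _ (Set.toFinite _), Finset.mul_sum]
        refine Finset.sum_congr ?_ fun l hl => ?_
        · ext l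
          rw [Set.Finite.mem_toFinset, Finset.mem_filter, hLmem, Set.mem_ofPred_eq]
          constructor
          · rintro ⟨hl, h⟩
            exact (hζ ψ l hψ hl).2 h.symm
          · intro h
            have hl : l ≠ 1 := by
              rintro rfl
              obtain ⟨s, -, hs⟩ := h
              apply hψ
              rw [← hs]
              ext
              simp
            exact ⟨hl, ((hζ ψ l hψ hl).1 h).symm⟩
        · rw [Set.Finite.mem_toFinset, Set.mem_ofPred_eq] at hl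
          have hl1 : l ≠ 1 := by
            rintro rfl
            obtain ⟨s, -, hs⟩ := hl
            apply hψ
            rw [← hs]
            ext
            simp
          rw [(hζ ψ l hψ hl1).1 hl]
          rfl
      rw [h3]
      ring
    rw [h2] at h1
    linear_combination (δ : ℂ) * h1 - (∑ l ∈ L, F (ζ l) * toFun l y) * hδ2
  intro η hη
  obtain ⟨ψ, hψ, rfl⟩ := hYζ η hη
  have h1 := coeff_eq (fun l => F (ζ l)) _ hkey ψ hψ
  rw [h1, neg_neg]

theorem main_case (hM : IsPModular p M) (hp2 : p ≠ 2) (Q : Sylow p H)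
    (hcomm : ∀ a b : Q, a * b = b * a) (hsr : Semi (Q : Subgroup H))
    (hl : blockRank p (principalBlock M H) = 2) {m t : ℕ}
    (hm : (Subgroup.centralizer ((Q : Subgroup H) : Set H)).relIndex
        (Subgroup.normalizer ((Q : Subgroup H) : Set H)) = m)
    (hmt : t * m + 1 = Nat.card Q) (ht : 2 ≤ t)
    (hk : Nat.card (principalBlock M H) = blockRank p (principalBlock M H) + t)
    (hN : t * m = 8 ∨ t * m = 24 ∨ m = 2) :
    ∃ (ξ : IrrCharacter H) (t : ℕ) (α ν : ℤ), Nat.card Q = 2 * t + 1 ∧ CBar p M ξ t α ν := by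
  classical
  have := isPrime_of_isPModular hM
  have := Fintype.ofFinite H
  have : Finite (IrrCharacter H) := Characters.Core.finite_irr
  have := Fintype.ofFinite (IrrCharacter H)
  have hm0 : 0 < m := by
    rw [← hm, ← SylowColumns.card_range]
    exact Nat.card_pos
  have hQ1 : 1 < Nat.card Q := by nlinarith
  obtain ⟨y₀, hy₀⟩ : ∃ u : Q, u ≠ 1 := by
    have : Nontrivial Q := Finite.one_lt_card_iff_nontrivial.1 hQ1
    exact exists_ne 1
  have hy₀' : (y₀ : H) ≠ 1 := fun h => hy₀ (Subtype.ext h)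
  obtain ⟨s, X, Y, hsm, hB, hXY, hXs, hYc, ⟨χ₁, hχ₁, hχ₁1⟩, a, d, δ, ζ, hδ, hXa, hζY, hYζ, hζ, hval,
    hnorm, -, hrel⟩ := H656.FrobBlock.main M hM Q hcomm m (by nlinarith) hm hsr
  have htt : (Nat.card Q - 1) / m = t := by
    rw [← hmt, Nat.add_sub_cancel, Nat.mul_div_cancel _ hm0]
  rw [htt] at hYc hnorm hrel
  have hs : s = 2 := by
    have h1 : Nat.card (principalBlock M H) = Nat.card X + Nat.card Y := by
      rw [hB]
      exact Set.ncard_union_eq hXY (Set.toFinite _) (Set.toFinite _)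
    omega
  rw [hs] at hXs hsm
  obtain ⟨ξ, hξ, hne⟩ : ∃ χ ∈ X, χ ≠ χ₁ := by
    by_contra hcon
    push Not at hcon
    have h1 : X = {χ₁} := Set.eq_singleton_iff_unique_mem.2 ⟨hχ₁, hcon⟩
    rw [h1] at hXs
    simp at hXs
  have hXe : X = {χ₁, ξ} := by
    symm
    apply Set.eq_of_subset_of_ncard_le
    · rintro z (rfl | rfl)
      · exact hχ₁
      · exact hξ
    · have h1 : X.ncard = 2 := hXs
      rw [h1, Set.ncard_pair (Ne.symm hne)]
    · exact Set.toFinite _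
  have hpp : ∀ z ∈ (Q : Subgroup H), IsPPart p z z := fun z hz =>
    H684.BlockTools.isPPart_self (H634.HypS.PEl.of_mem Q.isPGroup' hz)
  have ha1 : a χ₁ = 1 := by
    have h1 := (hXa χ₁ hχ₁).2 y₀ y₀ (hpp _ y₀.2) y₀.2 hy₀'
    rw [hχ₁1] at h1
    have h2 : (1 : ℂ) = ((a χ₁ : ℤ) : ℂ) := h1
    exact_mod_cast h2.symm
  have hsum : ∑ᶠ χ ∈ X, a χ ^ 2 = 1 + (a ξ) ^ 2 := by
    rw [hXe, finsum_mem_pair (Ne.symm hne), ha1]
    norm_num
  rw [hsum] at hnorm
  obtain ⟨hm2, hα, he⟩ := arith (m := m) (t := t) (a := a ξ) (d := d) (δ := δ) hδ (hXa ξ hξ).1 ht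
    hsm hN (by linarith)
  set α := a ξ with hαd
  set e : ℤ := (t : ℤ) * d - δ with hed
  have hα2 : (α : ℂ) * α = 1 := by rcases hα with h | h <;> rw [h] <;> norm_num
  have he2 : (e : ℂ) * e = 1 := by rcases he with h | h <;> rw [h] <;> norm_num
  have hξB : ξ ∈ principalBlock M H := by rw [hB]; exact Or.inl hξ
  -- the exceptional characters
  have hη : ∀ η ∈ Y, ∀ g : H, ¬ p ∣ orderOf g →
      (η : H → ℂ) g = -e * (1 + α * (ξ : H → ℂ) g) := by
    intro η hη g hg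
    have h1 := hrel η hη g hg
    rw [hXe, finsum_mem_pair (Ne.symm hne), ha1, hχ₁1] at h1
    have h2 : (e : ℂ) * (η : H → ℂ) g + (1 + α * (ξ : H → ℂ) g) = 0 := by
      rw [← h1, hed]
      push_cast
      ring
    linear_combination (e : ℂ) * h2 - (η : H → ℂ) g * he2
  -- the span
  have hspan : ∀ θ ∈ principalBlock M H, ∃ m n : ℤ, ∀ h : H, ¬ p ∣ orderOf h →
      (θ : H → ℂ) h = m + n * (ξ : H → ℂ) h := by
    intro θ hθ
    rw [hB, hXe] at hθ
    rcases hθ with (rfl | rfl) | hθ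
    · exact ⟨1, 0, fun h _ => by rw [hχ₁1]; simp⟩
    · exact ⟨0, 1, fun h _ => by simp⟩
    · refine ⟨-e, -(e * α), fun h hh => ?_⟩
      rw [hη θ hθ h hh]
      push_cast
      ring
  -- reality
  have hreal : ∀ h : H, conj ((ξ : H → ℂ) h) = (ξ : H → ℂ) h := by
    have h1 := cj_mem hξB
    rw [hB, hXe] at h1
    have h3 : cj ξ = ξ := by
      rcases h1 with (h1 | h1) | h1
      · exfalso
        apply hne
        apply Subtype.ext
        rw [hχ₁1]
        funext g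
        have h2 : (cj ξ : H → ℂ) g = 1 := by rw [h1, hχ₁1]
        rw [cj_apply] at h2
        have h3 := congrArg conj h2
        rwa [Complex.conj_conj, map_one] at h3
      · exact h1
      · exfalso
        have h2 := hη _ h1 1 pRegular_one
        obtain ⟨n, hn0, hn⟩ := Characters.Core.isIrr_apply_one ξ.2
        rw [cj_apply, hn, map_natCast] at h2
        have h3 : (n : ℤ) = -e * (1 + α * n) := by exact_mod_cast h2
        rcases he with he | he <;> rcases hα with hα | hα <;> rw [he, hα] at h3 <;> omega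
    intro h
    rw [← cj_apply, h3]
  -- the indicator
  obtain ⟨ν, hν, hνξ⟩ : ∃ ν : ℤ, (ν = 1 ∨ ν = -1) ∧ fs (ξ : H → ℂ) = ν := by
    rcases fs_of_real hreal with h | h
    · exact ⟨1, Or.inl rfl, by rw [h]; simp⟩
    · exact ⟨-1, Or.inr rfl, by rw [h]; simp⟩
  have hfs1 : fs (χ₁ : H → ℂ) = 1 := by rw [hχ₁1]; exact fs_triv
  have hYfin : Y.Finite := Set.toFinite _
  have hXfin : ({χ₁, ξ} : Set (IrrCharacter H)).Finite := Set.toFinite _
  have hYn : Y.ncard = t := hYc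
  rw [hXe] at hB hXY
  have hFc := fs_exc (Q := (Q : Subgroup H)) (Y := Y) hδ ζ hζY hYζ hζ
    (fun ψ hψ y hy => hval ψ hψ (y : H) y (hpp _ y.2) hy)
    (fun η => fs (η : H → ℂ)) (ν * α) (by
      intro y hy
      have hy' : (y : H) ≠ 1 := fun h => hy (Subtype.ext h)
      have h1 := fs_column hM hp2 Q hcomm hsr y.2 hy'
      rw [hB, finsum_mem_union hXY hXfin hYfin, finsum_mem_pair (Ne.symm hne), hfs1, hχ₁1, hνξ,
        (hXa ξ hξ).2 y y (hpp _ y.2) y.2 hy'] at h1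
      linear_combination h1)
  have hF : ∀ η ∈ Y, fs (η : H → ℂ) = -e * ν * α := by
    set Φ : ℂ := ∑ᶠ η ∈ Y, fs (η : H → ℂ) with hΦ
    have h1 : Φ = t * (δ * (ν * α + d * Φ)) := by
      have h2 : Φ = ∑ᶠ η ∈ Y, (δ * (ν * α + d * Φ) : ℂ) := by
        rw [hΦ]
        exact finsum_mem_congr rfl fun η hη => hFc η hη
      rw [finsum_mem_const_eq hYfin, hYn] at h2
      exact h2
    intro η hη
    rw [hFc η hη]
    have hδ2 : (δ : ℂ) * δ = 1 := by rcases hδ with h | h <;> rw [h] <;> norm_num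
    have h3 : (e : ℂ) = t * d - δ := by rw [hed]; push_cast; ring
    set f : ℂ := δ * (ν * α + d * Φ) with hf
    have h4 : f = δ * ν * α + δ * d * t * f := by
      rw [hf]
      linear_combination (δ : ℂ) * d * h1
    -- f * e = -ν α
    have h5 : f * e = -(ν * α) := by
      rw [h3]
      linear_combination (-(δ : ℂ)) * h4 - ((ν : ℂ) * α + d * t * f) * hδ2
    linear_combination (e : ℂ) * h5 - f * he2
  refine ⟨ξ, t, α, ν, by rw [← hmt, hm2]; ring, hξB, ?_, hα, hν, hreal, hspan, ?_, ?_⟩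
  · by_contra hcon
    push Not at hcon
    have h1 := rank_le_one hspan hcon
    omega
  · intro h h' hh hh'
    rw [hB, finsum_mem_union hXY hXfin hYfin, finsum_mem_pair (Ne.symm hne), hχ₁1, hreal h']
    have h1 : ∑ᶠ θ ∈ Y, (θ : H → ℂ) h * conj ((θ : H → ℂ) h') =
        ∑ᶠ θ ∈ Y, ((1 + α * (ξ : H → ℂ) h) * (1 + α * (ξ : H → ℂ) h') : ℂ) := by
      refine finsum_mem_congr rfl fun θ hθ => ?_
      rw [hη θ hθ h hh, hη θ hθ h' hh']
      simp only [map_mul, map_neg, map_add, map_one, hreal h']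
      have h2 : conj (e : ℂ) = e := map_intCast _ _
      have h3 : conj (α : ℂ) = α := map_intCast _ _
      rw [h2, h3]
      linear_combination (1 + α * (ξ : H → ℂ) h) * (1 + α * (ξ : H → ℂ) h') * he2
    rw [h1, finsum_mem_const_eq hYfin, hYn]
    simp only [map_one, mul_one]
    linear_combination (t : ℂ) * (ξ : H → ℂ) h * (ξ : H → ℂ) h' * hα2
  · intro h hh
    rw [hB, finsum_mem_union hXY hXfin hYfin, finsum_mem_pair (Ne.symm hne), hfs1, hχ₁1, hνξ]
    have h1 : ∑ᶠ θ ∈ Y, fs (θ : H → ℂ) * (θ : H → ℂ) h =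
        ∑ᶠ θ ∈ Y, (ν * α * (1 + α * (ξ : H → ℂ) h) : ℂ) := by
      refine finsum_mem_congr rfl fun θ hθ => ?_
      rw [hη θ hθ h hh, hF θ hθ]
      linear_combination (ν : ℂ) * α * (1 + α * (ξ : H → ℂ) h) * he2
    rw [h1, finsum_mem_const_eq hYfin, hYn]
    linear_combination (t : ℂ) * ν * (ξ : H → ℂ) h * hα2

/-- T10. -/
theorem cbar (hM : IsPModular p M) (hp2 : p ≠ 2) (Q : Sylow p H)
    (hcomm : ∀ a b : Q, a * b = b * a)
    (hsr : ∀ z ∈ (Q : Subgroup H), z ≠ 1 →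
      Subgroup.centralizer ({z} : Set H) ⊓ Subgroup.normalizer ((Q : Subgroup H) : Set H) =
        Subgroup.centralizer ((Q : Subgroup H) : Set H))
    (hcard : (Nat.card Q = p ∧ p ≠ 3) ∨ (p = 3 ∧ Nat.card Q = 9) ∨ (p = 5 ∧ Nat.card Q = 25))
    (h9 : p = 3 → Nat.card Q = 9 → Nat.card (principalBlock M H) ≠ 3)
    (hl : blockRank p (principalBlock M H) = 2) :
    ∃ (ξ : IrrCharacter H) (t : ℕ) (α ν : ℤ), Nat.card Q = 2 * t + 1 ∧ CBar p M ξ t α ν := by
  obtain ⟨t, hmt, hk⟩ := card_block Q hM hcomm hsr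
  set m := (Subgroup.centralizer ((Q : Subgroup H) : Set H)).relIndex
        (Subgroup.normalizer ((Q : Subgroup H) : Set H)) with hm
  have hm0 : 0 < m := by
    rw [hm, ← SylowColumns.card_range]
    exact Nat.card_pos
  have hp1 := hp.out.one_lt
  have hQ1 : 1 < Nat.card Q := by
    rcases hcard with ⟨h, -⟩ | ⟨-, h⟩ | ⟨-, h⟩ <;> rw [h]
    · exact hp1
    · norm_num
    · norm_num
  have ht0 : t ≠ 0 := by
    rintro rfl
    omega
  by_cases ht1 : t = 1
  · exfalso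
    subst ht1
    rw [hl] at hk
    rcases hcard with ⟨hQ, hp3⟩ | ⟨h3, hQ⟩ | ⟨h5, hQ⟩
    · have h1 := (S0960.result p M hM hp2 Q hQ m rfl).1
      have h2 : m = p - 1 := by omega
      rw [h2, Nat.div_self (by omega)] at h1
      omega
    · exact h9 h3 hQ hk
    · exact twentyfive hM Q hcomm hsr hQ (by omega) hk
  · refine main_case hM hp2 Q hcomm hsr hl (m := m) hm.symm hmt (by omega) hk ?_
    rcases hcard with ⟨hQ, hp3⟩ | ⟨h3, hQ⟩ | ⟨h5, hQ⟩
    · right; right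
      have h1 := (S0960.result p M hM hp2 Q hQ m rfl).1
      have h2 : (p - 1) / m = t := by
        rw [← hQ, ← hmt, Nat.add_sub_cancel, Nat.mul_div_cancel _ hm0]
      rw [h2] at h1
      omega
    · left
      have h1 := hmt.trans hQ
      omega
    · right; left
      have h1 := hmt.trans hQ
      omega

end Cfsg.Agent.H632.Four
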